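import Groth.Agent.Pi1Tors.Zariski
import Groth.Agent.Reductive.Points
import Groth.Prelude.Def_Red2
import Mathlib.CategoryTheory.Monoidal.Cartesian.Grp

/-!
Points of a scheme which is affine over an affine base, as algebra homomorphisms; units as points of `G_m`.
-/

set_option autoImplicit false
set_option backward.isDefEq.respectTransparency false
set_option backward.defeqAttrib.useBackward true
set_option linter.style.haveILetI false

universe u

open CategoryTheory CategoryTheory.Limits MonoidalCategory CartesianMonoidalCategory MonObj AlgebraicGeometry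
open scoped TensorProduct
open Algebra.TensorProduct (includeLeft includeRight)
open Groth.Pi1Tors

noncomputable section

namespace Groth.ExtGm

attribute [local instance 10000] CategoryTheory.Hom.group

variable {S : Scheme.{u}} {A : Type u} [CommRing A] (j : Spec (CommRingCat.of A) ⟶ S)

/-- The structure map to `Spec A`. -/
abbrev str (R : Type u) [CommRing R] [Algebra A R] : Spec (CommRingCat.of R) ⟶ Spec (CommRingCat.of A) :=
  Spec.map (CommRingCat.ofHom (algebraMap A R))

theorem specMap_str {R R' : Type u} [CommRing R] [Algebra A R] [CommRing R'] [Algebra A R'] (ψ : R →ₐ[A] R') :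
    Spec.map (CommRingCat.ofHom ψ.toRingHom) ≫ str R = (str R' : _ ⟶ Spec (CommRingCat.of A)) := by
  simp only [str]
  rw [← Spec.map_comp, ← CommRingCat.ofHom_comp]
  exact congrArg (fun k => Spec.map (CommRingCat.ofHom k)) ψ.comp_algebraMap

theorem specPt_id (R : Type u) [CommRing R] [Algebra A R] : specPt j (AlgHom.id A R) = 𝟙 (specObj j R) :=
  Over.OverMorphism.ext (by
    change Spec.map _ = 𝟙 _
    exact Spec.map_id _)

theorem specPt_injective {R R' : Type u} [CommRing R] [Algebra A R] [CommRing R'] [Algebra A R']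
    {ψ ψ' : R →ₐ[A] R'} (h : specPt j ψ = specPt j ψ') : ψ = ψ' := by
  have := Spec.map_injective (congrArg CommaMorphism.left h)
  exact AlgHom.coe_ringHom_injective (congrArg CommRingCat.Hom.hom this)

theorem exists_specPt {R R' : Type u} [CommRing R] [Algebra A R] [CommRing R'] [Algebra A R']
    (w : specObj j R' ⟶ specObj j R) (h : w.left ≫ str R = (str R' : _ ⟶ Spec (CommRingCat.of A))) :
    ∃ ψ : R →ₐ[A] R', w = specPt j ψ := by
  obtain ⟨φ, hφ⟩ := Spec.map_surjective w.left
  rw [← hφ] at h
  simp only [str] at h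
  rw [← Spec.map_comp] at h
  have h' := congrArg CommRingCat.Hom.hom (Spec.map_injective h)
  exact ⟨{ toRingHom := φ.hom, commutes' := fun r => RingHom.congr_fun h' r }, Over.OverMorphism.ext hφ.symm⟩

/-- A point of `Spec C` and a morphism to `S` test equality on affine schemes. -/
theorem affine_ext {C : Type u} [CommRing C] [Algebra A C] {T E : Over S} (c : T ⟶ specObj j C) {a b : T ⟶ E}
    (h : ∀ (R : Type u) [CommRing R] [Algebra A R] (ψ : C →ₐ[A] R) (t : specObj j R ⟶ T),
      t ≫ c = specPt j ψ → t ≫ a = t ≫ b) : a = b := by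
  refine Over.OverMorphism.ext (Scheme.Cover.hom_ext T.left.affineCover _ _ fun i => ?_)
  obtain ⟨φ, hφ⟩ := Spec.map_surjective (T.left.affineCover.f i ≫ c.left)
  letI : Algebra A (T.left.affineOpenCover.X i) := (φ.hom.comp (algebraMap A C)).toAlgebra
  let ψ : C →ₐ[A] (T.left.affineOpenCover.X i) := { toRingHom := φ.hom, commutes' := fun _ => rfl }
  let t : specObj j (T.left.affineOpenCover.X i) ⟶ T := Over.homMk (T.left.affineCover.f i) (by
    rw [← Over.w c, ← Category.assoc]
    refine (congrArg (· ≫ _) hφ.symm).trans ?_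
    change Spec.map φ ≫ str C ≫ j = _
    rw [← Category.assoc]
    exact congrArg (· ≫ j) (specMap_str ψ))
  exact congrArg CommaMorphism.left (h _ ψ t (Over.OverMorphism.ext hφ.symm))

section Chart

variable {Q : Over S} {B : Type u} [CommRing B] [Algebra A B] (io : specObj j B ⟶ Q)

/-- The point of `Q` with a given comorphism. -/
def pt {R : Type u} [CommRing R] [Algebra A R] (x : B →ₐ[A] R) : specObj j R ⟶ Q := specPt j x ≫ io

theorem pt_id : pt j io (AlgHom.id A B) = io := by rw [pt, specPt_id, Category.id_comp]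

theorem specPt_comp_pt {R R' : Type u} [CommRing R] [Algebra A R] [CommRing R'] [Algebra A R']
    (ψ : R →ₐ[A] R') (x : B →ₐ[A] R) : specPt j ψ ≫ pt j io x = pt j io (ψ.comp x) := by
  rw [pt, pt, ← Category.assoc, specPt_comp]

variable (hio : IsPullback io.left (str B) Q.hom j)
include hio

theorem pt_injective {R : Type u} [CommRing R] [Algebra A R] {x y : B →ₐ[A] R} (h : pt j io x = pt j io y) :
    x = y := by
  refine specPt_injective j (Over.OverMorphism.ext (hio.hom_ext ?_ ?_))
  · exact congrArg CommaMorphism.left h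
  · exact (specMap_str x).trans (specMap_str y).symm

theorem pt_surjective {R : Type u} [CommRing R] [Algebra A R] (q : specObj j R ⟶ Q) : ∃ x, pt j io x = q := by
  let l := hio.lift q.left (str R) (Over.w q)
  have hl : l ≫ str B = str R := hio.lift_snd _ _ _
  let w : specObj j R ⟶ specObj j B := Over.homMk l (by
    change l ≫ str B ≫ j = str R ≫ j
    rw [← Category.assoc, hl])
  obtain ⟨x, hx⟩ := exists_specPt j w hl
  refine ⟨x, Over.OverMorphism.ext ?_⟩
  rw [pt, ← hx]
  exact hio.lift_fst _ _ _

/-- The universal pair. -/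
theorem exists_pairing {C : Type u} [CommRing C] [Algebra A C] {T : Over S} (q : T ⟶ Q) (c : T ⟶ specObj j C) :
    ∃ w : T ⟶ specObj j (B ⊗[A] C),
      w ≫ pt j io includeLeft = q ∧ w ≫ specPt j (includeRight : C →ₐ[A] B ⊗[A] C) = c := by
  let z := hio.lift q.left (c.left ≫ str C) (by rw [Over.w q, Category.assoc]; exact (Over.w c).symm)
  have hz : z ≫ str B = c.left ≫ str C := hio.lift_snd _ _ _
  let l : T.left ⟶ Spec (CommRingCat.of (B ⊗[A] C)) := pullback.lift z c.left hz ≫ (pullbackSpecIso A B C).hom
  have h1 : l ≫ Spec.map (CommRingCat.ofHom (includeLeft : B →ₐ[A] B ⊗[A] C).toRingHom) = z := by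
    rw [Category.assoc]
    exact (congrArg (pullback.lift z c.left hz ≫ ·) (pullbackSpecIso_hom_fst A B C)).trans (pullback.lift_fst _ _ _)
  have h2 : l ≫ Spec.map (CommRingCat.ofHom (includeRight : C →ₐ[A] B ⊗[A] C).toRingHom) = c.left := by
    rw [Category.assoc]
    exact (congrArg (pullback.lift z c.left hz ≫ ·) (pullbackSpecIso_hom_snd A B C)).trans (pullback.lift_snd _ _ _)
  have hl : l ≫ str (B ⊗[A] C) ≫ j = T.hom := by
    rw [← Over.w c, ← h2, ← specMap_str (includeRight : C →ₐ[A] B ⊗[A] C)]
    simp only [Category.assoc]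
    rfl
  refine ⟨Over.homMk l hl, Over.OverMorphism.ext ?_, Over.OverMorphism.ext h2⟩
  change l ≫ Spec.map _ ≫ io.left = _
  rw [← Category.assoc, h1]
  exact hio.lift_fst _ _ _

end Chart

section Units

variable {R : Type u} [CommRing R] [Algebra A R]

/-- A unit as a point of `G_m`. -/
def un (r : Rˣ) : specObj j R ⟶ Red.Gm S :=
  Reductive.gmMk (specObj j R) (Units.map (val j (𝟙 (specObj j R))).toMonoidHom r)

theorem gmFn_un (r : Rˣ) : Red.gmFn (un j r) = val j (𝟙 (specObj j R)) r := by
  rw [un, Reductive.gmFn_gmMk]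
  rfl

theorem un_injective : Function.Injective (un j : Rˣ → _) := fun r r' h => Units.ext
  ((val_id_bijective j).1 (by rw [← gmFn_un, ← gmFn_un, h]))

theorem un_surjective (g : specObj j R ⟶ Red.Gm S) : ∃ r : Rˣ, un j r = g := by
  obtain ⟨r, hr⟩ := (val_id_bijective j (R := R)).2 (Red.gmFn g)
  have hu : IsUnit r := by
    obtain ⟨b, hb⟩ := isUnit_iff_exists_inv.1 (hr ▸ Reductive.isUnit_gmFn g)
    obtain ⟨b, rfl⟩ := (val_id_bijective j).2 b
    exact isUnit_iff_exists_inv.2 ⟨b, (val_id_bijective j).1 (by rw [map_mul, hb, map_one])⟩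
  exact ⟨hu.unit, Reductive.gmFn_injective (by rw [gmFn_un]; exact hr)⟩

theorem un_mul (r r' : Rˣ) : un j (r * r') = un j r * un j r' :=
  Reductive.gmFn_injective (by rw [Reductive.gmFn_mul, gmFn_un, gmFn_un, gmFn_un, Units.val_mul, map_mul])

theorem specPt_comp_un {R' : Type u} [CommRing R'] [Algebra A R'] (ψ : R →ₐ[A] R') (r : Rˣ) :
    specPt j ψ ≫ un j r = un j (Units.map ψ.toRingHom.toMonoidHom r) := Reductive.gmFn_injective (by
  rw [Reductive.gmFn_comp, gmFn_un, gmFn_un, ← val_comp, Category.comp_id, ← Category.id_comp (specPt j ψ),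
    val_specPt]
  rfl)

end Units

end Groth.ExtGm
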