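import Mathlib.RingTheory.TensorProduct.Maps
import Mathlib.RingTheory.Flat.FaithfullyFlat.Basic
import Mathlib.RingTheory.FinitePresentation
import Mathlib.RingTheory.Finiteness.ModuleFinitePresentation
import Mathlib.RingTheory.TensorProduct.Free
import Mathlib.Algebra.Module.Projective
import Mathlib.RingTheory.Finiteness.Projective
import Mathlib.LinearAlgebra.Dual.Lemmas
import Mathlib.Algebra.Module.FinitePresentation

/-!
A symmetric unit valued 2-cocycle on a finite projective bialgebra `B` over `A` becomes a coboundary over the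
twisted dual algebra, which is finite projective and faithfully flat over `A`.
-/

set_option autoImplicit false
set_option linter.style.haveILetI false

universe u

open scoped TensorProduct
open Algebra.TensorProduct (includeLeft includeRight)

noncomputable section

namespace Groth.ExtGm

variable {A B : Type u} [CommRing A] [CommRing B] [Algebra A B]

/-- Two points as a point of `B ⊗ B`. -/
abbrev two {R : Type u} [CommRing R] [Algebra A R] (x y : B →ₐ[A] R) : B ⊗[A] B →ₐ[A] R :=
  Algebra.TensorProduct.lift x y fun _ _ => Commute.all _ _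

theorem two_tmul {R : Type u} [CommRing R] [Algebra A R] (x y : B →ₐ[A] R) (a b : B) :
    two x y (a ⊗ₜ b) = x a * y b := Algebra.TensorProduct.lift_tmul _ _ _ a b

theorem two_incl : two (R := B ⊗[A] B) includeLeft includeRight = AlgHom.id A (B ⊗[A] B) :=
  Algebra.TensorProduct.ext' fun a b => by simp

theorem comp_two {R R' : Type u} [CommRing R] [Algebra A R] [CommRing R'] [Algebra A R'] (h : R →ₐ[A] R')
    (x y : B →ₐ[A] R) : h.comp (two x y) = two (h.comp x) (h.comp y) :=
  Algebra.TensorProduct.ext' fun a b => by simp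

/-- The data of a commutative group law on points with a symmetric unit valued 2-cocycle. -/
structure CocycleData (A B : Type u) [CommRing A] [CommRing B] [Algebra A B] where
  /-- comultiplication -/
  Δ : B →ₐ[A] B ⊗[A] B
  /-- counit -/
  ε : B →ₐ[A] A
  /-- the cocycle -/
  c : B ⊗[A] B
  isUnit_c : IsUnit c
  assoc : ∀ (R : Type u) [CommRing R] [Algebra A R] (x y z : B →ₐ[A] R),
    (two ((two x y).comp Δ) z).comp Δ = (two x ((two y z).comp Δ)).comp Δ
  comm : ∀ (R : Type u) [CommRing R] [Algebra A R] (x y : B →ₐ[A] R), (two x y).comp Δ = (two y x).comp Δ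
  one_mul : ∀ (R : Type u) [CommRing R] [Algebra A R] (x : B →ₐ[A] R),
    (two ((Algebra.ofId A R).comp ε) x).comp Δ = x
  inv : ∀ (R : Type u) [CommRing R] [Algebra A R] (x : B →ₐ[A] R),
    ∃ x', (two x x').comp Δ = (Algebra.ofId A R).comp ε
  symm : ∀ (R : Type u) [CommRing R] [Algebra A R] (x y : B →ₐ[A] R), two x y c = two y x c
  cocycle : ∀ (R : Type u) [CommRing R] [Algebra A R] (x y z : B →ₐ[A] R),
    two x y c * two ((two x y).comp Δ) z c = two y z c * two x ((two y z).comp Δ) c

namespace CocycleData

variable (D : CocycleData A B)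

/-- The twisted comultiplication. -/
def M : B →ₗ[A] B ⊗[A] B := LinearMap.mulLeft A D.c ∘ₗ D.Δ.toLinearMap

theorem M_apply (x : B) : D.M x = D.c * D.Δ x := rfl

theorem two_M {R : Type u} [CommRing R] [Algebra A R] (x y : B →ₐ[A] R) (b : B) :
    two x y (D.M b) = two x y D.c * (two x y).comp D.Δ b := by
  rw [M_apply, map_mul, AlgHom.comp_apply]

theorem M_comm (b : B) : two (R := B ⊗[A] B) includeRight includeLeft (D.M b) = D.M b := by
  rw [two_M, D.symm, D.comm, ← two_M, two_incl, AlgHom.id_apply]

/-- Its contraction with a linear form, on all tensors. -/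
def ct (f : Module.Dual A B) : B ⊗[A] B →ₗ[A] B := (TensorProduct.lid A B).toLinearMap ∘ₗ f.rTensor B

@[simp]
theorem ct_tmul (f : Module.Dual A B) (a b : B) : ct f (a ⊗ₜ b) = f a • b := by simp [ct]

/-- The translation operator of a linear form. -/
def L : Module.Dual A B →ₗ[A] Module.End A B where
  toFun f := ct f ∘ₗ D.M
  map_add' f g := by
    refine LinearMap.ext fun x => ?_
    simp only [LinearMap.comp_apply, LinearMap.add_apply]
    induction D.M x using TensorProduct.induction_on with
    | zero => simp
    | tmul a b => simp [add_smul]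
    | add v w hv hw => simp only [map_add, hv, hw]; abel
  map_smul' r f := by
    refine LinearMap.ext fun x => ?_
    simp only [LinearMap.comp_apply, LinearMap.smul_apply, RingHom.id_apply]
    induction D.M x using TensorProduct.induction_on with
    | zero => simp
    | tmul a b => simp [smul_smul]
    | add v w hv hw => simp only [map_add, hv, hw, smul_add]

/-- The product of two linear forms, on tensors. -/
def pr (g f : Module.Dual A B) : B ⊗[A] B →ₗ[A] A :=
  (TensorProduct.lid A A).toLinearMap ∘ₗ TensorProduct.map g f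

@[simp]
theorem pr_tmul (g f : Module.Dual A B) (a b : B) : pr g f (a ⊗ₜ b) = g a * f b := by simp [pr]

theorem pr_swap (g f : Module.Dual A B) (w : B ⊗[A] B) :
    pr g f (two (R := B ⊗[A] B) includeRight includeLeft w) = pr f g w := by
  induction w using TensorProduct.induction_on with
  | zero => simp
  | tmul a b => simp [mul_comm]
  | add v w hv hw => simp only [map_add, hv, hw]

theorem pr_M_comm (g f : Module.Dual A B) : pr g f ∘ₗ D.M = pr f g ∘ₗ D.M := LinearMap.ext fun x => by
  rw [LinearMap.comp_apply, LinearMap.comp_apply, ← D.M_comm, pr_swap, D.M_comm]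

theorem L_comp (f g : Module.Dual A B) : D.L f * D.L g = D.L (pr g f ∘ₗ D.M) := by
  refine LinearMap.ext fun x => ?_
  let p1 : B →ₐ[A] B ⊗[A] (B ⊗[A] B) := includeLeft
  let p2 : B →ₐ[A] B ⊗[A] (B ⊗[A] B) := includeRight.comp includeLeft
  let p3 : B →ₐ[A] B ⊗[A] (B ⊗[A] B) := includeRight.comp includeRight
  let K : B ⊗[A] (B ⊗[A] B) →ₗ[A] B :=
    (TensorProduct.lid A B).toLinearMap ∘ₗ TensorProduct.map g (ct f)
  have hK : ∀ a b c, K (a ⊗ₜ (b ⊗ₜ c)) = g a • f b • c := fun a b c => by simp [K, smul_comm (f b)]
  have h1 : ∀ z, D.L f (ct g z) = K (D.M.lTensor B z) := by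
    intro z
    induction z using TensorProduct.induction_on with
    | zero => simp
    | tmul a b =>
      rw [ct_tmul, map_smul, LinearMap.lTensor_tmul]
      simp only [K, LinearMap.comp_apply, LinearEquiv.coe_coe, TensorProduct.map_tmul, TensorProduct.lid_tmul]
      rfl
    | add v w hv hw => simp only [map_add, hv, hw]
  have hN : ∀ z, D.M.lTensor B z = two p2 p3 D.c * two p1 ((two p2 p3).comp D.Δ) z := by
    intro z
    induction z using TensorProduct.induction_on with
    | zero => simp
    | tmul a b =>
      have e : (two p2 p3 : _ →ₐ[A] _) = includeRight := by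
        refine Algebra.TensorProduct.ext' fun u v => ?_
        simp [p2, p3]
      rw [LinearMap.lTensor_tmul, M_apply, e, two_tmul, AlgHom.comp_apply]
      simp [p1]
    | add v w hv hw => simp only [map_add, hv, hw, mul_add]
  have hK2 : ∀ z, K (two p1 p2 D.c * two ((two p1 p2).comp D.Δ) p3 z) = ct (pr g f ∘ₗ D.M) z := by
    intro z
    induction z using TensorProduct.induction_on with
    | zero => simp
    | tmul a b =>
      rw [ct_tmul, two_tmul, ← mul_assoc, ← two_M]
      rw [show (pr g f ∘ₗ D.M) a = pr g f (D.M a) from rfl]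
      induction D.M a using TensorProduct.induction_on with
      | zero => simp
      | tmul a' b' => simp [p1, p2, p3, hK, smul_smul]
      | add v w hv hw => simp only [map_add, add_mul, hv, hw, add_smul]
    | add v w hv hw => simp only [map_add, hv, hw, mul_add]
  change D.L f (ct g (D.M x)) = ct (pr g f ∘ₗ D.M) (D.M x)
  rw [h1, hN, ← hK2, two_M D p1, two_M D ((two p1 p2).comp D.Δ), ← mul_assoc, ← mul_assoc,
    D.cocycle, D.assoc]

/-- The value of the cocycle at the neutral point. -/
def d : A := two D.ε D.ε D.c

theorem isUnit_d : IsUnit D.d := D.isUnit_c.map _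

theorem two_one_left {R : Type u} [CommRing R] [Algebra A R] (z : B →ₐ[A] R) :
    two ((Algebra.ofId A R).comp D.ε) z D.c = algebraMap A R D.d := by
  have h := D.cocycle R ((Algebra.ofId A R).comp D.ε) ((Algebra.ofId A R).comp D.ε) z
  rw [D.one_mul, D.one_mul] at h
  have h' := ((D.isUnit_c.map (two ((Algebra.ofId A R).comp D.ε) z)).mul_left_inj).1 h
  rw [← h', ← comp_two]
  rfl

theorem L_counit : D.L D.ε.toLinearMap = D.d • 1 := by
  refine LinearMap.ext fun x => ?_
  have hw : ∀ w, ct D.ε.toLinearMap w = two ((Algebra.ofId A B).comp D.ε) (AlgHom.id A B) w := fun w => by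
    induction w using TensorProduct.induction_on with
    | zero => simp
    | tmul a b => simp [Algebra.smul_def, Algebra.ofId_apply]
    | add v w hv hw => simp only [map_add, hv, hw]
  change ct _ (D.M x) = D.d • x
  rw [hw, two_M, two_one_left, D.one_mul, AlgHom.id_apply, Algebra.smul_def]

theorem counit_L (f : Module.Dual A B) (x : B) : D.ε (D.L f x) = D.d * f x := by
  have hw : ∀ w, D.ε (ct f w) = f (two (R := B) (AlgHom.id A B) ((Algebra.ofId A B).comp D.ε) w) := fun w => by
    induction w using TensorProduct.induction_on with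
    | zero => simp
    | tmul a b =>
      rw [ct_tmul, map_smul, two_tmul, AlgHom.id_apply, AlgHom.comp_apply, Algebra.ofId_apply,
        mul_comm a, ← Algebra.smul_def, map_smul, smul_eq_mul, smul_eq_mul, mul_comm]
    | add v w hv hw => simp only [map_add, hv, hw]
  change D.ε (ct f (D.M x)) = _
  rw [hw, two_M, D.symm, two_one_left, D.comm, D.one_mul, AlgHom.id_apply, ← Algebra.smul_def, map_smul,
    smul_eq_mul]

theorem L_injective : Function.Injective D.L := fun f g h => LinearMap.ext fun x => by
  have := congrArg (fun T : Module.End A B => D.ε (T x)) h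
  simpa [counit_L, D.isUnit_d.mul_right_inj] using this

theorem one_mem : (1 : Module.End A B) ∈ LinearMap.range D.L := by
  refine ⟨(↑D.isUnit_d.unit⁻¹ : A) • D.ε.toLinearMap, ?_⟩
  rw [map_smul, L_counit, smul_smul, IsUnit.val_inv_mul, one_smul]

/-- The twisted dual algebra. -/
def alg : Subalgebra A (Module.End A B) :=
  (LinearMap.range D.L).toSubalgebra D.one_mem fun a b ha hb => by
    obtain ⟨f, rfl⟩ := ha
    obtain ⟨g, rfl⟩ := hb
    exact ⟨_, (D.L_comp f g).symm⟩

instance commRing : CommRing D.alg :=
  { (inferInstance : Ring D.alg) with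
    mul_comm := fun a b => by
      obtain ⟨f, hf⟩ := a.2
      obtain ⟨g, hg⟩ := b.2
      refine Subtype.ext ?_
      change (a : Module.End A B) * b = (b : Module.End A B) * a
      rw [← hf, ← hg, L_comp, L_comp, pr_M_comm] }

/-- The twisted dual algebra is the dual module. -/
def ell : Module.Dual A B ≃ₗ[A] D.alg := LinearEquiv.ofInjective D.L D.L_injective

theorem coe_ell (f : Module.Dual A B) : (D.ell f : Module.End A B) = D.L f := rfl

theorem ell_mul (f g : Module.Dual A B) : D.ell f * D.ell g = D.ell (pr g f ∘ₗ D.M) :=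
  Subtype.ext (D.L_comp f g)

theorem ell_counit : D.ell D.ε.toLinearMap = algebraMap A D.alg D.d := Subtype.ext (by
  rw [coe_ell, L_counit]
  exact (Algebra.algebraMap_eq_smul_one _).symm)

variable [Module.Finite A B] [Module.Projective A B]

instance finite_alg : Module.Finite A D.alg := Module.Finite.equiv D.ell

instance projective_alg : Module.Projective A D.alg := Module.Projective.of_equiv D.ell

theorem finitePresentation_alg : Algebra.FinitePresentation A D.alg :=
  haveI : Module.FinitePresentation A D.alg := Module.finitePresentation_of_projective A D.alg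
  inferInstance

theorem faithfullyFlat_alg : Module.FaithfullyFlat A D.alg := by
  refine ⟨fun {m} hm htop => hm.ne_top ((Ideal.eq_top_iff_one m).2 ?_)⟩
  have key : ∀ T : D.alg, T ∈ m • (⊤ : Submodule A D.alg) → D.ε ((T : Module.End A B) 1) ∈ m := by
    intro T hT
    refine Submodule.smul_induction_on hT (fun a ha T _ => ?_) fun T T' h h' => ?_
    · change D.ε ((a • (T : Module.End A B)) 1) ∈ m
      rw [LinearMap.smul_apply, map_smul, smul_eq_mul]
      exact m.mul_mem_right _ ha
    · change D.ε ((((T : Module.End A B) + (T' : Module.End A B))) 1) ∈ m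
      rw [LinearMap.add_apply, map_add]
      exact m.add_mem h h'
  simpa using key 1 (by rw [htop]; exact Submodule.mem_top)

/-- Over the twisted dual algebra the cocycle is a coboundary. -/
theorem exists_coboundary : ∃ b : B ⊗[A] D.alg, IsUnit b ∧
    ∀ (R : Type u) [CommRing R] [Algebra A R] (x y : B →ₐ[A] R) (ψ : D.alg →ₐ[A] R),
      Algebra.TensorProduct.lift x ψ (fun _ _ => Commute.all _ _) b *
          Algebra.TensorProduct.lift y ψ (fun _ _ => Commute.all _ _) b =
        two x y D.c * Algebra.TensorProduct.lift ((two x y).comp D.Δ) ψ (fun _ _ => Commute.all _ _) b := by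
  obtain ⟨n, π, σ, -, -, hσ⟩ := Module.Finite.exists_comp_eq_id_of_projective A B
  let e : Fin n → B := fun i => π (Pi.single i 1)
  let f : Fin n → Module.Dual A B := fun i => LinearMap.proj i ∘ₗ σ
  have hef : ∀ x : B, ∑ i, f i x • e i = x := fun x => by
    conv_rhs => rw [show x = π (σ x) from (LinearMap.congr_fun hσ x).symm, pi_eq_sum_univ' (σ x)]
    simp [map_sum, e, f]
  let b : B ⊗[A] D.alg := ∑ i, e i ⊗ₜ D.ell (f i)
  have hb : ∀ (R : Type u) [CommRing R] [Algebra A R] (x : B →ₐ[A] R) (ψ : D.alg →ₐ[A] R),
      Algebra.TensorProduct.lift x ψ (fun _ _ => Commute.all _ _) b = ∑ i, x (e i) * ψ (D.ell (f i)) :=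
    fun R _ _ x ψ => by simp [b]
  have key : ∀ (R : Type u) [CommRing R] [Algebra A R] (x y : B →ₐ[A] R) (ψ : D.alg →ₐ[A] R),
      Algebra.TensorProduct.lift x ψ (fun _ _ => Commute.all _ _) b *
          Algebra.TensorProduct.lift y ψ (fun _ _ => Commute.all _ _) b =
        two x y D.c * Algebra.TensorProduct.lift ((two x y).comp D.Δ) ψ (fun _ _ => Commute.all _ _) b := by
    intro R _ _ x y ψ
    have hexp : ∀ w : B ⊗[A] B, two x y w = ∑ k, ∑ l, pr (f k) (f l) w • (x (e k) * y (e l)) := by
      intro w
      induction w using TensorProduct.induction_on with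
      | zero => simp
      | tmul a c =>
        conv_lhs => rw [two_tmul, ← hef a, ← hef c, map_sum, map_sum, Finset.sum_mul_sum]
        simp [smul_smul, mul_comm]
      | add v w hv hw => simp only [map_add, hv, hw, add_smul, Finset.sum_add_distrib]
    rw [hb, hb, hb, Finset.sum_mul_sum, Finset.mul_sum]
    simp_rw [← mul_assoc, ← two_M, hexp, Finset.sum_mul]
    conv_rhs => rw [Finset.sum_comm]
    refine Finset.sum_congr rfl fun k _ => Eq.symm ?_
    rw [Finset.sum_comm]
    refine Finset.sum_congr rfl fun l _ => ?_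
    have h2 : ∀ h : Module.Dual A B, ∑ i, h (e i) • f i = h := fun h => LinearMap.ext fun z => by
      conv_rhs => rw [← hef z, map_sum]
      simp [mul_comm]
    calc ∑ i, pr (f k) (f l) (D.M (e i)) • (x (e k) * y (e l)) * ψ (D.ell (f i))
        = (x (e k) * y (e l)) * ψ (D.ell (∑ i, (pr (f k) (f l) ∘ₗ D.M) (e i) • f i)) := by
          simp [map_sum, Finset.mul_sum]
      _ = (x (e k) * y (e l)) * ψ (D.ell (pr (f k) (f l) ∘ₗ D.M)) := by rw [h2]
      _ = x (e k) * ψ (D.ell (f k)) * y (e l) * ψ (D.ell (f l)) := by
          rw [pr_M_comm, ← ell_mul, map_mul]; ring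
  refine ⟨b, ?_, key⟩
  obtain ⟨x', hx'⟩ := D.inv (B ⊗[A] D.alg) includeLeft
  have h := key (B ⊗[A] D.alg) includeLeft x' includeRight
  rw [hx'] at h
  have h0 : Algebra.TensorProduct.lift ((Algebra.ofId A (B ⊗[A] D.alg)).comp D.ε)
      (includeRight : D.alg →ₐ[A] B ⊗[A] D.alg) (fun _ _ => Commute.all _ _) b = algebraMap A _ D.d := by
    rw [hb, ← (includeRight : D.alg →ₐ[A] B ⊗[A] D.alg).commutes, ← ell_counit]
    have h2 : D.ε.toLinearMap = ∑ i, D.ε (e i) • f i := LinearMap.ext fun z => by
      conv_lhs => rw [← hef z]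
      simp [mul_comm]
    conv_rhs => rw [h2, map_sum, map_sum]
    simp only [AlgHom.comp_apply, Algebra.ofId_apply, map_smul]
    exact Finset.sum_congr rfl fun i _ => (Algebra.smul_def _ _).symm
  rw [h0, Algebra.TensorProduct.lift_includeLeft_includeRight, AlgHom.id_apply] at h
  exact isUnit_of_mul_isUnit_left (h ▸ ((D.isUnit_c.map _).mul (D.isUnit_d.map _)))

end CocycleData

end Groth.ExtGm
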