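import Groth.Agent.ExtGm.Affine
import Groth.Agent.ExtGm.Cocycle
import Groth.Agent.SGA7.Ext
import Groth.Prelude.Def_NonAbH2

/-!
An extension of a finite projective group over an affine base by `G_m` with a scheme theoretic section splits
after a finite faithfully flat extension of the base.
-/

set_option autoImplicit false
set_option backward.isDefEq.respectTransparency false
set_option backward.defeqAttrib.useBackward true
set_option linter.style.haveILetI false

universe u

open CategoryTheory CategoryTheory.Limits MonoidalCategory CartesianMonoidalCategory MonObj AlgebraicGeometry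
open scoped TensorProduct
open Algebra.TensorProduct (includeLeft includeRight)
open Groth.Pi1Tors

noncomputable section

namespace Groth.ExtGm

attribute [local instance 10000] CategoryTheory.Hom.group

variable {S : Scheme.{u}}

theorem comm_hom {E : Over S} [GrpObj E] [IsCommMonObj E] {T : Over S} (x y : T ⟶ E) : x * y = y * x := by
  letI := CategoryTheory.Hom.commGroup (X := T) (G := E)
  exact _root_.mul_comm x y

theorem exists_split {A : Type u} [CommRing A] (j : Spec (CommRingCat.of A) ⟶ S) {Q E : Over S} [GrpObj Q] [GrpObj E]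
    [IsCommMonObj Q] [IsCommMonObj E] {u : Red.Gm S ⟶ E} {v : E ⟶ Q}
    (hex : NonAbH1.IsExactSeq Scheme.fppfPrecoverage u v) {B : Type u} [CommRing B] [Algebra A B]
    [Module.Finite A B] [Module.Projective A B] (io : specObj j B ⟶ Q)
    (hio : IsPullback io.left (str B) Q.hom j) (s0 : specObj j B ⟶ E) (hs0 : s0 ≫ v = io) :
    ∃ (C : Type u) (_ : CommRing C) (_ : Algebra A C), Algebra.FinitePresentation A C ∧ Module.FaithfullyFlat A C ∧
      ∃ σ : Q ⊗ specObj j C ⟶ E,
        (∀ (T : Over S) (q q' : T ⟶ Q) (t : T ⟶ specObj j C),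
          lift (q * q') t ≫ σ = (lift q t ≫ σ) * (lift q' t ≫ σ)) ∧ σ ≫ v = fst Q (specObj j C) := by
  haveI := hex.1
  haveI := hex.2.1
  obtain ⟨Δ, hΔ⟩ := pt_surjective j io hio
    (pt j io (includeLeft : B →ₐ[A] B ⊗[A] B) * pt j io (includeRight : B →ₐ[A] B ⊗[A] B))
  obtain ⟨ε, hε⟩ := pt_surjective j io hio (1 : specObj j A ⟶ Q)
  have hmul : ∀ (R : Type u) [CommRing R] [Algebra A R] (x y : B →ₐ[A] R),
      pt j io ((two x y).comp Δ) = pt j io x * pt j io y := fun R _ _ x y => by
    rw [← specPt_comp_pt, hΔ, MonObj.comp_mul, specPt_comp_pt, specPt_comp_pt,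
      show (two x y).comp includeLeft = x from AlgHom.ext fun b => by simp,
      show (two x y).comp includeRight = y from AlgHom.ext fun b => by simp]
  have hone : ∀ (R : Type u) [CommRing R] [Algebra A R], pt j io ((Algebra.ofId A R).comp ε) = 1 := fun R _ _ => by
    rw [← specPt_comp_pt, hε, MonObj.comp_one]
  have hassoc : ∀ (R : Type u) [CommRing R] [Algebra A R] (x y z : B →ₐ[A] R),
      (two ((two x y).comp Δ) z).comp Δ = (two x ((two y z).comp Δ)).comp Δ := fun R _ _ x y z =>
    pt_injective j io hio (by rw [hmul, hmul, hmul, hmul, _root_.mul_assoc])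
  have hcomm : ∀ (R : Type u) [CommRing R] [Algebra A R] (x y : B →ₐ[A] R),
      (two x y).comp Δ = (two y x).comp Δ := fun R _ _ x y =>
    pt_injective j io hio (by rw [hmul, hmul, comm_hom])
  let s : ∀ {R : Type u} [CommRing R] [Algebra A R], (B →ₐ[A] R) → (specObj j R ⟶ E) :=
    fun x => specPt j x ≫ s0
  have hsv : ∀ (R : Type u) [CommRing R] [Algebra A R] (x : B →ₐ[A] R), s x ≫ v = pt j io x :=
    fun R _ _ x => by rw [pt, ← hs0, ← Category.assoc]
  have hscomp : ∀ (R R' : Type u) [CommRing R] [Algebra A R] [CommRing R'] [Algebra A R'] (ψ : R →ₐ[A] R')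
      (x : B →ₐ[A] R), specPt j ψ ≫ s x = s (ψ.comp x) := fun R R' _ _ _ _ ψ x => by
    simp only [s]; rw [← Category.assoc, specPt_comp]
  obtain ⟨g, hg⟩ := SGA7.Ext.exists_translate hex (s Δ)
    (s (includeLeft : B →ₐ[A] B ⊗[A] B) * s (includeRight : B →ₐ[A] B ⊗[A] B))
    (by rw [MonObj.mul_comp, hsv, hsv, hsv, hΔ])
  obtain ⟨c, rfl⟩ := un_surjective j g
  have hun : ∀ (R : Type u) [CommRing R] [Algebra A R] (a b : Rˣ),
      un j (a * b) ≫ u = (un j a ≫ u) * (un j b ≫ u) := fun R _ _ a b => by rw [un_mul, MonObj.mul_comp]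
  let cU : ∀ {R : Type u} [CommRing R] [Algebra A R], (B →ₐ[A] R) → (B →ₐ[A] R) → Rˣ :=
    fun x y => Units.map (two x y).toRingHom.toMonoidHom c
  have hs : ∀ (R : Type u) [CommRing R] [Algebra A R] (x y : B →ₐ[A] R),
      s x * s y = s ((two x y).comp Δ) * (un j (cU x y) ≫ u) := fun R _ _ x y => by
    have h := congrArg (specPt j (two x y) ≫ ·) hg
    simp only [MonObj.comp_mul, hscomp] at h
    rw [show (two x y).comp includeLeft = x from AlgHom.ext fun b => by simp,
      show (two x y).comp includeRight = y from AlgHom.ext fun b => by simp,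
      ← Category.assoc, specPt_comp_un] at h
    exact h
  have hinj : ∀ (R : Type u) [CommRing R] [Algebra A R] (a b : Rˣ), un j a ≫ u = un j b ≫ u → a = b :=
    fun R _ _ a b h => un_injective j (SGA7.Ext.u_injective hex h)
  let D : CocycleData A B :=
    { Δ := Δ
      ε := ε
      c := c
      isUnit_c := c.isUnit
      assoc := hassoc
      comm := hcomm
      one_mul := fun R _ _ x => pt_injective j io hio (by rw [hmul, hone, _root_.one_mul])
      inv := fun R _ _ x => by
        obtain ⟨x', hx'⟩ := pt_surjective j io hio (pt j io x)⁻¹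
        exact ⟨x', pt_injective j io hio (by rw [hmul, hx', mul_inv_cancel, hone])⟩
      symm := fun R _ _ x y => by
        refine congrArg Units.val (hinj R (cU x y) (cU y x) (mul_left_cancel (a := s ((two x y).comp Δ)) ?_))
        rw [← hs, comm_hom, hs, hcomm R y x]
      cocycle := fun R _ _ x y z => by
        refine congrArg Units.val (hinj R (cU x y * cU ((two x y).comp Δ) z) (cU y z * cU x ((two y z).comp Δ))
          (mul_left_cancel (a := s ((two ((two x y).comp Δ) z).comp Δ)) ?_))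
        have e1 : (s x * s y) * s z = s ((two ((two x y).comp Δ) z).comp Δ) *
            (un j (cU x y * cU ((two x y).comp Δ) z) ≫ u) := by
          rw [hs, _root_.mul_assoc, comm_hom (un j (cU x y) ≫ u), ← _root_.mul_assoc, hs, _root_.mul_assoc,
            ← hun, _root_.mul_comm (cU x y)]
        have e2 : s x * (s y * s z) = s ((two ((two x y).comp Δ) z).comp Δ) *
            (un j (cU y z * cU x ((two y z).comp Δ)) ≫ u) := by
          rw [hs, ← _root_.mul_assoc, hs, _root_.mul_assoc, ← hun, _root_.mul_comm (cU y z), hassoc]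
        rw [← e1, ← e2, _root_.mul_assoc] }
  obtain ⟨b, hbu, hb⟩ := D.exists_coboundary
  refine ⟨D.alg, inferInstance, inferInstance, D.finitePresentation_alg, D.faithfullyFlat_alg, ?_⟩
  let σu : specObj j (B ⊗[A] D.alg) ⟶ E := s includeLeft * (un j hbu.unit ≫ u)⁻¹
  let pr : ∀ {R : Type u} [CommRing R] [Algebra A R], (B →ₐ[A] R) → (D.alg →ₐ[A] R) → (B ⊗[A] D.alg →ₐ[A] R) :=
    fun x ψ => Algebra.TensorProduct.lift x ψ fun _ _ => Commute.all _ _
  let bU : ∀ {R : Type u} [CommRing R] [Algebra A R], (B →ₐ[A] R) → (D.alg →ₐ[A] R) → Rˣ :=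
    fun x ψ => Units.map (pr x ψ).toRingHom.toMonoidHom hbu.unit
  have hσ : ∀ (R : Type u) [CommRing R] [Algebra A R] (x : B →ₐ[A] R) (ψ : D.alg →ₐ[A] R),
      specPt j (pr x ψ) ≫ σu = s x * (un j (bU x ψ) ≫ u)⁻¹ := fun R _ _ x ψ => by
    rw [MonObj.comp_mul, GrpObj.comp_inv, hscomp, ← Category.assoc, specPt_comp_un,
      show (pr x ψ).comp includeLeft = x from AlgHom.ext fun b => by simp [pr]]
  obtain ⟨w, hw1, hw2⟩ := exists_pairing j io hio (fst Q (specObj j D.alg)) (snd Q (specObj j D.alg))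
  have hw : ∀ (R : Type u) [CommRing R] [Algebra A R] (x : B →ₐ[A] R) (ψ : D.alg →ₐ[A] R),
      lift (pt j io x) (specPt j ψ) ≫ w = specPt j (pr x ψ) := fun R _ _ x ψ => by
    have e2 : (lift (pt j io x) (specPt j ψ) ≫ w) ≫ specPt j (includeRight : D.alg →ₐ[A] B ⊗[A] D.alg) =
        specPt j ψ := by rw [Category.assoc, hw2, lift_snd]
    obtain ⟨φ, hφ⟩ := exists_specPt j (lift (pt j io x) (specPt j ψ) ≫ w) (by
      rw [← specMap_str (includeRight : D.alg →ₐ[A] B ⊗[A] D.alg), ← specMap_str ψ, ← Category.assoc]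
      exact congrArg (· ≫ str D.alg) (congrArg CommaMorphism.left e2))
    rw [hφ, specPt_comp] at e2
    have e1 : (lift (pt j io x) (specPt j ψ) ≫ w) ≫ pt j io includeLeft = pt j io x := by
      rw [Category.assoc, hw1, lift_fst]
    rw [hφ, specPt_comp_pt] at e1
    rw [hφ]
    refine congrArg (specPt j) (Algebra.TensorProduct.ext' fun a d => ?_)
    rw [show a ⊗ₜ[A] d = (a ⊗ₜ[A] (1 : D.alg)) * ((1 : B) ⊗ₜ[A] d) by simp, map_mul, map_mul]
    rw [show φ (a ⊗ₜ 1) = x a from AlgHom.congr_fun (pt_injective j io hio e1) a,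
      show φ (1 ⊗ₜ d) = ψ d from AlgHom.congr_fun (specPt_injective j e2) d]
    simp [pr]
  refine ⟨w ≫ σu, fun T q q' t => ?_, ?_⟩
  · refine affine_ext j t fun R _ _ ψ h ht => ?_
    obtain ⟨x, hx⟩ := pt_surjective j io hio (h ≫ q)
    obtain ⟨y, hy⟩ := pt_surjective j io hio (h ≫ q')
    simp only [MonObj.comp_mul, comp_lift_assoc, MonObj.comp_mul, ht, ← hx, ← hy, ← hmul]
    simp only [← Category.assoc, hw, hσ]
    have hbb : bU x ψ * bU y ψ = cU x y * bU ((two x y).comp Δ) ψ := Units.ext (hb R x y ψ)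
    calc s ((two x y).comp Δ) * (un j (bU ((two x y).comp Δ) ψ) ≫ u)⁻¹
        = (s x * s y) * (un j (cU x y * bU ((two x y).comp Δ) ψ) ≫ u)⁻¹ := by
          rw [hun, hs, _root_.mul_inv_rev, _root_.mul_assoc, comm_hom _ (un j (cU x y) ≫ u)⁻¹,
            ← _root_.mul_assoc (un j (cU x y) ≫ u), mul_inv_cancel, _root_.one_mul]
      _ = (s x * (un j (bU x ψ) ≫ u)⁻¹) * (s y * (un j (bU y ψ) ≫ u)⁻¹) := by
          rw [← hbb, hun, _root_.mul_inv_rev, comm_hom (un j (bU y ψ) ≫ u)⁻¹, _root_.mul_assoc, _root_.mul_assoc,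
            ← _root_.mul_assoc (s y), comm_hom (s y) (un j (bU x ψ) ≫ u)⁻¹, _root_.mul_assoc]
  · rw [Category.assoc, MonObj.mul_comp, GrpObj.inv_comp, SGA7.Ext.comp_eq_one hex, inv_one, _root_.mul_one,
      hsv, hw1]

end Groth.ExtGm
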