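import Groth.Agent.Reductive.MultGa
import Groth.Agent.AlgGrp1.Basic
import Groth.Prelude.Def_Red2

/-!
Families of homomorphisms over `S'` as homomorphisms of base changes.
-/

set_option autoImplicit false
set_option backward.isDefEq.respectTransparency false
universe u

open CategoryTheory CategoryTheory.Limits MonoidalCategory CartesianMonoidalCategory MonObj AlgebraicGeometry

noncomputable section

namespace Groth.ExtGm

attribute [local instance 10000] CategoryTheory.Hom.group

variable {S : Scheme.{u}} {Q E : Over S} [GrpObj Q] [GrpObj E]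

/-- The map to `S'` of an object over `S'`. -/
abbrev toBase {S' : Scheme.{u}} (f : S' ⟶ S) (Z : Over S') : (Over.map f).obj Z ⟶ Over.mk f :=
  Over.homMk Z.hom rfl

theorem exists_bcSection (v : E ⟶ Q) {S' : Scheme.{u}} (f : S' ⟶ S) (σ : Q ⊗ Over.mk f ⟶ E)
    (hhom : ∀ (T : Over S) (q q' : T ⟶ Q) (t : T ⟶ Over.mk f),
      lift (q * q') t ≫ σ = (lift q t ≫ σ) * (lift q' t ≫ σ))
    (hsec : σ ≫ v = fst Q (Over.mk f)) :
    ∃ s : Red.bc f Q ⟶ Red.bc f E, IsMonHom s ∧ s ≫ (Over.pullback f).map v = 𝟙 (Red.bc f Q) := by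
  let s : Red.bc f Q ⟶ Red.bc f E := (Groth.Reductive.bcPointEquiv f E _).symm
    (lift (Groth.Reductive.bcPointEquiv f Q _ (𝟙 _)) (toBase f _) ≫ σ)
  have key : ∀ (Z : Over S') (z : Z ⟶ Red.bc f Q), Groth.Reductive.bcPointEquiv f E Z (z ≫ s) =
      lift (Groth.Reductive.bcPointEquiv f Q Z z) (toBase f Z) ≫ σ := fun Z z => by
    rw [Groth.Reductive.bcPointEquiv_comp, MulEquiv.apply_symm_apply, ← Category.assoc, comp_lift,
      ← Groth.Reductive.bcPointEquiv_comp, Category.comp_id]
    congr 2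
    exact Over.OverMorphism.ext (Over.w z)
  refine ⟨s, Groth.AlgGrp1.isMonHom_of_points _ fun Z a b => ?_, ?_⟩
  · apply (Groth.Reductive.bcPointEquiv f E Z).injective
    rw [key, map_mul, map_mul, key, key, hhom]
  · have hnat : ∀ (Z : Over S') (x : Z ⟶ Red.bc f E), Groth.Reductive.bcPointEquiv f Q Z
        (x ≫ (Over.pullback f).map v) = Groth.Reductive.bcPointEquiv f E Z x ≫ v := fun Z x =>
      (Over.mapPullbackAdj f).homEquiv_naturality_right_symm x v
    apply (Groth.Reductive.bcPointEquiv f Q _).injective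
    rw [hnat, MulEquiv.apply_symm_apply, Category.assoc, hsec, lift_fst]

end Groth.ExtGm
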