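import Groth.Agent.ExtGm.Zar
import Groth.Agent.ExtGm.Split
import Groth.Agent.ExtGm.ToBc
import Groth.Prelude.Def_TwC

/-!
Extensions of finite locally free commutative groups by `G_m` split fppf locally on the base.
-/

set_option autoImplicit false
set_option backward.isDefEq.respectTransparency false
set_option linter.style.haveILetI false

universe u

open CategoryTheory CategoryTheory.Limits MonoidalCategory CartesianMonoidalCategory MonObj AlgebraicGeometry
open Groth.Pi1Tors

noncomputable section

namespace Groth.ExtGm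

theorem locally_split_of_finite {S : Scheme.{u}} {Q E : Over S} [GrpObj Q] [GrpObj E] [IsCommMonObj Q]
    [IsCommMonObj E] [IsFinite Q.hom] [Flat Q.hom] [LocallyOfFinitePresentation Q.hom]
    {u : Red.Gm S ⟶ E} {v : E ⟶ Q} (hex : NonAbH1.IsExactSeq Scheme.fppfPrecoverage u v) :
    TwC.Locally S TwC.Topology.fppf (fun S' f =>
      ∃ σ : Red.bc f Q ⟶ Red.bc f E, IsMonHom σ ∧ σ ≫ (Over.pullback f).map v = 𝟙 (Red.bc f Q)) := by
  intro s
  obtain ⟨A, _, j, hj, hs, B, _, _, _, _, io, s0, hio, hs0⟩ := exists_local_section hex s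
  haveI := hj
  obtain ⟨C, _, _, hfp, hff, σ, hhom, hsec⟩ := exists_split j hex io hio s0 hs0
  haveI : Flat (str (A := A) C) := Flat.SpecMap_iff.2 (RingHom.flat_algebraMap_iff.2 inferInstance)
  haveI : LocallyOfFinitePresentation (str (A := A) C) :=
    (HasRingHomProperty.Spec_iff (P := @LocallyOfFinitePresentation)).2 (RingHom.finitePresentation_algebraMap.2 hfp)
  refine ⟨Spec (CommRingCat.of C), str C ≫ j, inferInstance, inferInstance, ?_,
    exists_bcSection v (str C ≫ j) σ hhom hsec⟩
  obtain ⟨x, rfl⟩ := hs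
  obtain ⟨y, hy⟩ := PrimeSpectrum.comap_surjective_of_faithfullyFlat (A := A) (B := C) x
  exact ⟨y, congrArg j hy⟩

end Groth.ExtGm
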