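import Groth.Agent.ExtGm.ToBc
import Groth.Agent.SGA7.ExtLFT
import Groth.Agent.Reductive.MTCrit.Ext
import Groth.Agent.Misc15.HomMT.FiniteType
import Groth.Agent.Misc15.MTSub.Char
import Groth.Agent.Misc15.MTSub.Classify
import Groth.Agent.Misc15.MTSub.Piece
import Groth.Agent.Hopf.Cochar.Basic
import Groth.Prelude.Def_TwC

/-!
Extensions of groups of multiplicative type by `G_m` split étale locally on the base.
-/

set_option autoImplicit false
set_option backward.isDefEq.respectTransparency false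
set_option linter.style.haveILetI false

universe u

open CategoryTheory CategoryTheory.Limits MonoidalCategory CartesianMonoidalCategory MonObj AlgebraicGeometry
open Groth.Reductive Groth.Reductive.MTInt Groth.Reductive.FreeDiag
open Groth.SGA7

noncomputable section

namespace Groth.ExtGm

attribute [local instance 10000] CategoryTheory.Hom.group

variable {S : Scheme.{u}} {Q E : Over S} [GrpObj Q] [GrpObj E] {u : Red.Gm S ⟶ E} {v : E ⟶ Q}

theorem isKernel_of_exact (hex : NonAbH1.IsExactSeq Scheme.fppfPrecoverage u v) : AlgGrp.IsKernel u v := by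
  haveI := hex.2.1
  have hw : u ≫ v = toUnit (Red.Gm S) ≫ η[Q] := by rw [hex.2.2.1, Hom.one_def]
  have hl : ∀ s : Limits.PullbackCone v η[Q], ∃ g : s.pt ⟶ Red.Gm S, s.fst = g ≫ u := fun s =>
    Ext.exists_kernel hex s.fst (by rw [s.condition, Hom.one_def, toUnit_unique s.snd (toUnit _)])
  choose g hg using hl
  exact ⟨⟨hw⟩, ⟨Limits.PullbackCone.IsLimit.mk hw g (fun s => (hg s).symm) (fun s => toUnit_unique _ _)
    fun s m h1 _ => Ext.u_injective hex (h1.trans (hg s))⟩⟩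

theorem isMultTypeFT_ext [IsCommMonObj E] (hex : NonAbH1.IsExactSeq Scheme.fppfPrecoverage u v)
    (hQ : SGA3x.IsMultTypeFT Q) : SGA3x.IsMultTypeFT E := by
  haveI := hex.1
  haveI := hex.2.1
  have hG : SGA3x.IsMultTypeFT (Red.Gm S) := Groth.Reductive.FreeDiag.isMultTypeFT_DS inferInstance
  haveI := (Cochar.props hG).1
  haveI := (Cochar.props hG).2.1
  haveI : Surjective v.left := Ext.surjective_quot hex
  haveI : MorphismProperty.DescendsAlong @Flat.{u} (@Surjective ⊓ @Flat ⊓ @QuasiCompact) :=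
    Groth.AlgSp2.flat_descendsAlong
  haveI : MorphismProperty.DescendsAlong @Flat.{u} (@Surjective ⊓ @Flat ⊓ @LocallyOfFinitePresentation) :=
    instDescendsAlongSchemeMinMorphismPropertySurjectiveFlatLocallyOfFinitePresentationOfQuasiCompactOfIsZariskiLocalAtTarget @Flat.{u}
  haveI : MorphismProperty.DescendsAlong @QuasiCompact.{u} (@Surjective ⊓ @Flat ⊓ @LocallyOfFinitePresentation) :=
    instDescendsAlongSchemeMinMorphismPropertySurjectiveFlatLocallyOfFinitePresentationOfQuasiCompactOfIsZariskiLocalAtTarget @QuasiCompact.{u}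
  haveI : Flat v.left := Ext.quot_property @Flat hex ‹Flat (Red.Gm S).hom›
  haveI : QuasiCompact v.left := Ext.quot_property @QuasiCompact hex inferInstance
  exact MTCrit.isMultTypeFT_of_ext_comm (isKernel_of_exact hex) hG hQ fun X a b => by
    letI := CategoryTheory.Hom.commGroup (X := X) (G := E)
    exact _root_.mul_comm a b

/-- Characters of `E` restricting to the identity of `G_m` exist étale locally. -/
theorem exists_retraction (hex : NonAbH1.IsExactSeq Scheme.fppfPrecoverage u v) (hE : SGA3x.IsMultTypeFT E) (s : S) :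
    ∃ (T : Scheme.{u}) (f : T ⟶ S), Etale f ∧ s ∈ Set.range f ∧ ∃ χ : E ⊗ Over.mk f ⟶ Red.Gm S,
      (∀ (Z : Over S) (x x' : Z ⟶ E) (z : Z ⟶ Over.mk f),
        lift (x * x') z ≫ χ = (lift x z ≫ χ) * (lift x' z ≫ χ)) ∧
      ∀ (Z : Over S) (g : Z ⟶ Red.Gm S) (z : Z ⟶ Over.mk f), lift (g ≫ u) z ≫ χ = g := by
  haveI := hex.1
  obtain ⟨T, f, t, hf, rfl, ⟨τT⟩⟩ := Misc15.HomMT.exists_etale_chart hE s
  haveI := hf
  obtain ⟨O, hO, htO, -⟩ := exists_isAffineOpen_mem_and_subset (X := T) (x := t) (U := ⊤) trivial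
  haveI : IsAffine (Over.mk (O.ι ≫ f)).left := hO
  haveI : Nonempty (Over.mk (O.ι ≫ f)).left := ⟨⟨t, htO⟩⟩
  let Y : Over S := Over.mk (O.ι ≫ f)
  let τ : Triv E Y := τT.restrict (Over.homMk O.ι rfl)
  obtain ⟨hEa, -, hElfp⟩ := Cochar.props hE
  haveI := hElfp
  haveI : AddGroup.FG τ.M := Misc15.MTSub.fg_of_triv hEa τ
  let τ₁ : Triv (Red.Gm S) Y := Misc15.MTSub.dsTriv ℤ Y
  obtain ⟨W, a, htW, hW⟩ : ∃ (W : Y.left.Opens) (a : Multiplicative τ.M →* Multiplicative ℤ),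
      (⟨t, htO⟩ : Y.left) ∈ W ∧ ∀ (Z : Over S) (z : Z ⟶ Y), Set.range z.left ⊆ (W : Set Y.left) →
        ∀ g : Z ⟶ Red.Gm S, τ.val z (lift g z ≫ fst (Red.Gm S) Y ≫ u) = (dsValHom g).comp a :=
    Misc15.MTSub.exists_locConst τ₁ τ (fst (Red.Gm S) Y ≫ u) (fun X g₁ g₂ w => by
      rw [lift_fst_assoc, lift_fst_assoc, lift_fst_assoc, MonObj.mul_comp]) (⟨t, htO⟩ : Y.left)
  obtain ⟨P, hP, htP, hPW⟩ := exists_isAffineOpen_mem_and_subset (X := Y.left) (x := ⟨t, htO⟩) (U := W) htW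
  let Y' : Over S := Over.mk (P.ι ≫ O.ι ≫ f)
  let i : Y' ⟶ Y := Over.homMk P.ι rfl
  haveI : IsAffine Y'.left := hP
  haveI : Nonempty Y'.left := ⟨⟨⟨t, htO⟩, htP⟩⟩
  have hW' : ∀ (Z : Over S) (z : Z ⟶ Y') (g : Z ⟶ Red.Gm S),
      τ.val (z ≫ i) (g ≫ u) = (dsValHom g).comp a := fun Z z g => by
    have h := hW Z (z ≫ i) (by
      rintro _ ⟨w, rfl⟩
      exact hPW (z.left.base w).2) g
    rw [lift_fst_assoc] at h
    exact h
  obtain ⟨n, hn⟩ : Multiplicative.ofAdd (1 : ℤ) ∈ a.range := by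
    by_contra hne
    let N : Subgroup (Multiplicative ℤ) := a.range
    let C := MonoidAlgebra Γ(Y'.left, ⊤) (Multiplicative ℤ ⧸ N)
    obtain ⟨Z, _, y, γC, hγC, -⟩ := exists_testObj (Y := Y')
      (MonoidAlgebra.singleOneRingHom : Γ(Y'.left, ⊤) →+* C)
    let x : Z ⟶ Red.Gm S := dsMk Z
      (γC.toMonoidHom.comp ((MonoidAlgebra.of Γ(Y'.left, ⊤) (Multiplicative ℤ ⧸ N)).comp (QuotientGroup.mk' N)))
    have hx : x ≫ u = 1 := by
      apply (τ.val (y ≫ i)).injective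
      rw [hW', map_one]
      refine MonoidHom.ext fun m => ?_
      change dsValHom x (a m) = 1
      rw [dsValHom_apply, dsVal_dsMk]
      have : QuotientGroup.mk' N (a m) = 1 := (QuotientGroup.eq_one_iff _).2 ⟨m, rfl⟩
      simp only [MonoidHom.comp_apply, this, map_one]
    have h1 : x = 1 := Ext.u_injective hex (hx.trans (MonObj.one_comp u).symm)
    have h2 := congrArg (fun w => dsVal w (Multiplicative.ofAdd (1 : ℤ))) h1
    simp only [x, dsVal_dsMk, dsVal_one, MonoidHom.comp_apply, MonoidAlgebra.of_apply] at h2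
    have h3 := hγC.1 (h2.trans (map_one γC).symm)
    haveI : Nonempty (⊤ : Y'.left.Opens) := ⟨⟨Classical.arbitrary Y'.left, trivial⟩⟩
    haveI : Nontrivial Γ(Y'.left, ⊤) := inferInstance
    rw [MonoidAlgebra.one_def] at h3
    exact hne ((QuotientGroup.eq_one_iff _).1 ((MonoidAlgebra.single_left_injective one_ne_zero) h3))
  let nn : Multiplicative ℤ →* Multiplicative τ.M := zpowersHom _ n
  have han : a.comp nn = MonoidHom.id _ := MonoidHom.ext_mint (by simp [nn, hn])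
  let χ : E ⊗ Y' ⟶ Red.Gm S := dsMk _ ((τ.val (snd E Y' ≫ i) (fst E Y')).comp nn)
  have hχ : ∀ (Z : Over S) (x : Z ⟶ E) (z : Z ⟶ Y') (m : Multiplicative ℤ),
      dsVal (lift x z ≫ χ) m = τ.val (z ≫ i) x (nn m) := fun Z x z m => by
    rw [dsVal_comp, dsVal_dsMk]
    have e := DFunLike.congr_fun (τ.nat (lift x z) (snd E Y' ≫ i) (fst E Y')) (nn m)
    rw [lift_snd_assoc, lift_fst] at e
    exact e.symm
  refine ⟨_, P.ι ≫ O.ι ≫ f, inferInstance, ⟨⟨⟨t, htO⟩, htP⟩, rfl⟩, χ, fun Z x x' z => ?_, fun Z g z => ?_⟩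
  · refine dsVal_ext fun m => ?_
    rw [dsVal_mul, hχ, hχ, hχ, map_mul, MonoidHom.mul_apply]
  · refine dsVal_ext fun m => ?_
    rw [hχ, hW', MonoidHom.comp_apply, ← MonoidHom.comp_apply a nn, han, MonoidHom.id_apply, dsValHom_apply]

theorem locally_split_of_multType [IsCommMonObj E] (hex : NonAbH1.IsExactSeq Scheme.fppfPrecoverage u v)
    (hQ : SGA3x.IsMultTypeFT Q) :
    TwC.Locally S TwC.Topology.fppf (fun S' f =>
      ∃ σ : Red.bc f Q ⟶ Red.bc f E, IsMonHom σ ∧ σ ≫ (Over.pullback f).map v = 𝟙 (Red.bc f Q)) := by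
  haveI := hex.1
  haveI := hex.2.1
  intro s
  obtain ⟨T, f, hf, hs, χ, hχhom, hχu⟩ := exists_retraction hex (isMultTypeFT_ext hex hQ) s
  haveI := hf
  let Y : Over S := Over.mk f
  have hcomm : ∀ (Z : Over S) (a b : Z ⟶ E), a * b = b * a := fun Z a b => by
    letI := CategoryTheory.Hom.commGroup (X := Z) (G := E)
    exact _root_.mul_comm a b
  let a₀ : E ⊗ Y ⟶ E := fst E Y * (χ ≫ u)⁻¹
  have ha₀ : ∀ (Z : Over S) (x : Z ⟶ E) (z : Z ⟶ Y), lift x z ≫ a₀ = x * ((lift x z ≫ χ) ≫ u)⁻¹ :=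
    fun Z x z => by rw [MonObj.comp_mul, GrpObj.comp_inv, lift_fst, Category.assoc]
  have hloc : Ext.LocSurj (v ⊗ₘ 𝟙 Y) := (Ext.locSurj hex).tensor (Ext.LocSurj.id Y)
  obtain ⟨σ, hσ⟩ := hloc.desc a₀ fun Z p q hpq => by
    have e1 : (p ≫ fst E Y) ≫ v = (q ≫ fst E Y) ≫ v := by
      have := congrArg (· ≫ fst Q Y) hpq
      simpa using this
    have e2 : p ≫ snd E Y = q ≫ snd E Y := by
      have := congrArg (· ≫ snd Q Y) hpq
      simpa using this
    obtain ⟨g, hg⟩ := Ext.exists_translate hex _ _ e1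
    rw [show p = lift (p ≫ fst E Y) (p ≫ snd E Y) by ext <;> simp,
      show q = lift (q ≫ fst E Y) (q ≫ snd E Y) by ext <;> simp, ha₀, ha₀, ← e2, hg, hχhom, hχu,
      MonObj.mul_comp, _root_.mul_inv_rev, _root_.mul_assoc (p ≫ fst E Y), ← _root_.mul_assoc (g ≫ u),
      mul_inv_cancel, _root_.one_mul]
  have hσ' : ∀ (Z : Over S) (x : Z ⟶ E) (z : Z ⟶ Y), lift (x ≫ v) z ≫ σ = x * ((lift x z ≫ χ) ≫ u)⁻¹ :=
    fun Z x z => by
      rw [← ha₀, ← hσ, ← Category.assoc]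
      congr 1
      ext <;> simp
  refine ⟨T, f, inferInstance, inferInstance, hs, exists_bcSection v f σ (fun Z q q' z => ?_) ?_⟩
  · have huniv : lift ((fst (Q ⊗ Q) Y ≫ fst Q Q) * (fst (Q ⊗ Q) Y ≫ snd Q Q)) (snd (Q ⊗ Q) Y) ≫ σ =
        (lift (fst (Q ⊗ Q) Y ≫ fst Q Q) (snd (Q ⊗ Q) Y) ≫ σ) * (lift (fst (Q ⊗ Q) Y ≫ snd Q Q) (snd (Q ⊗ Q) Y) ≫ σ) := by
      refine (((Ext.locSurj hex).tensor (Ext.locSurj hex)).tensor (Ext.LocSurj.id Y)).cancel ?_
      simp only [MonObj.comp_mul, comp_lift_assoc, tensorHom_fst_assoc, tensorHom_snd, tensorHom_fst,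
        tensorHom_snd_assoc, Category.comp_id, Category.assoc]
      simp only [← Category.assoc, ← MonObj.mul_comp, hσ']
      rw [hχhom, MonObj.mul_comp, _root_.mul_inv_rev, hcomm _ ((lift _ _ ≫ χ) ≫ u)⁻¹, _root_.mul_assoc,
        _root_.mul_assoc]
      congr 1
      rw [← _root_.mul_assoc, ← _root_.mul_assoc, hcomm _ ((fst (E ⊗ E) Y ≫ snd E E))]
    have h := congrArg (lift (lift q q') z ≫ ·) huniv
    have e1 : lift (lift q q') z ≫ fst (Q ⊗ Q) Y ≫ fst Q Q = q := by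
      rw [← Category.assoc]; exact (congrArg (· ≫ fst Q Q) (lift_fst _ z)).trans (lift_fst q q')
    have e2 : lift (lift q q') z ≫ fst (Q ⊗ Q) Y ≫ snd Q Q = q' := by
      rw [← Category.assoc]; exact (congrArg (· ≫ snd Q Q) (lift_fst _ z)).trans (lift_snd q q')
    simp only [MonObj.comp_mul, comp_lift_assoc, lift_snd, e1, e2] at h
    exact h
  · refine hloc.cancel ?_
    rw [← Category.assoc, hσ, MonObj.mul_comp, GrpObj.inv_comp, Ext.comp_eq_one hex, inv_one,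
      _root_.mul_one, tensorHom_fst]

end Groth.ExtGm
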