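import Groth.Agent.S6005
import Mathlib.RingTheory.Ideal.GoingUp
import Mathlib.RingTheory.QuasiFinite.Basic
import Mathlib.RingTheory.Spectrum.Prime.Topology

/-!
Semilocal triviality of descent cocycles of units: the solutions can be chosen over a neighbourhood of a whole
fibre of a finite morphism.
-/

set_option autoImplicit false
set_option linter.style.haveILetI false

universe u

open scoped TensorProduct

namespace Groth.ExtGm

variable {A B B' : Type u} [CommRing A] [CommRing B] [Algebra A B] [CommRing B'] [Algebra B B']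

/-- A product of solutions for a cocycle and for its inverse descends. -/
theorem exists_descend [Module.FaithfullyFlat B B'] {c d : B' ⊗[B] B'} (hcd : c * d = 1) {m n : B'}
    (hm : c * (m ⊗ₜ 1) = 1 ⊗ₜ m) (hn : d * (n ⊗ₜ 1) = 1 ⊗ₜ n) : ∃ f : B, algebraMap B B' f = n * m := by
  have h0 : Algebra.TensorProduct.includeLeftSubRight B B' (n * m) = 0 := by
    rw [Algebra.TensorProduct.includeLeftSubRight_apply, sub_eq_zero]
    have e1 : (n * m) ⊗ₜ[B] (1 : B') = (n ⊗ₜ 1) * (m ⊗ₜ 1) := by simp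
    have e2 : (1 : B') ⊗ₜ[B] (n * m) = (1 ⊗ₜ n) * (1 ⊗ₜ m) := by simp
    rw [e1, e2, ← hn, ← hm]
    linear_combination -((n ⊗ₜ[B] (1 : B')) * (m ⊗ₜ 1)) * hcd
  exact (Algebra.IsEffective.of_faithfullyFlat B B' (n * m)).1 h0

/-- A solution of a cocycle equation which is invertible along a whole fibre. -/
theorem exists_fibre_solution [Module.Finite A B] [Module.FaithfullyFlat B B'] (c : B' ⊗[B] B') (hu : IsUnit c)
    (hc : Pi1Tors.p13 c = Pi1Tors.p23 c * Pi1Tors.p12 c) (p : PrimeSpectrum A) :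
    ∃ (a : A) (f : B) (m n : B'), a ∉ p.asIdeal ∧ c * (m ⊗ₜ 1) = 1 ⊗ₜ m ∧ n * m = algebraMap B B' f ∧
      PrimeSpectrum.basicOpen (algebraMap A B a) ≤ PrimeSpectrum.basicOpen f := by
  classical
  obtain ⟨d, hcd⟩ := hu.exists_right_inv
  let T : Type u := p.asIdeal.primesOver B
  haveI : Finite T := Set.finite_coe_iff.mpr (Algebra.QuasiFinite.finite_primesOver _)
  letI : Fintype T := Fintype.ofFinite T
  have hsol : ∀ q : T, ∃ (m n : B') (f : B), c * (m ⊗ₜ 1) = 1 ⊗ₜ m ∧ d * (n ⊗ₜ 1) = 1 ⊗ₜ n ∧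
      n * m = algebraMap B B' f ∧ f ∉ q.1 := fun q => by
    obtain ⟨f, hf, m, n, hm, hn⟩ :=
      Groth.Agent.S6005.exists_unit_solution c hu hc ⟨q.1, q.2.1⟩
    refine ⟨m, algebraMap B B' f * n, f * f, hm, ?_, by rw [_root_.mul_assoc, hn, map_mul],
      fun h => hf ((q.2.1.mem_or_mem h).elim id id)⟩
    have e : d * ((1 : B') ⊗ₜ[B] m) = m ⊗ₜ 1 := by
      rw [← hm]; linear_combination (m ⊗ₜ[B] (1 : B')) * hcd
    have eF : (algebraMap B B' f) ⊗ₜ[B] (1 : B') = (1 : B') ⊗ₜ algebraMap B B' f := by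
      rw [Algebra.algebraMap_eq_smul_one, TensorProduct.smul_tmul]
    have el : ∀ x y : B', (x * y) ⊗ₜ[B] (1 : B') = (x ⊗ₜ 1) * (y ⊗ₜ 1) := fun x y => by simp
    have er : ∀ x y : B', (1 : B') ⊗ₜ[B] (x * y) = (1 ⊗ₜ x) * (1 ⊗ₜ y) := fun x y => by simp
    have hl : (n ⊗ₜ[B] (1 : B')) * (m ⊗ₜ 1) = algebraMap B B' f ⊗ₜ 1 := by rw [← el, hn]
    have hr : ((1 : B') ⊗ₜ[B] n) * (1 ⊗ₜ m) = algebraMap B B' f ⊗ₜ 1 := by rw [← er, hn, eF]
    rw [el, er, ← eF]
    linear_combination -(d * (n ⊗ₜ[B] (1 : B'))) * hr + ((1 : B') ⊗ₜ[B] n) * (n ⊗ₜ 1) * e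
      + ((1 : B') ⊗ₜ[B] n) * hl
  choose m n f hm hn hnm hf using hsol
  have hinc : ∀ q r : T, q ≠ r → ∃ b : B, b ∈ r.1 ∧ b ∉ q.1 := fun q r hne => by
    refine SetLike.not_le_iff_exists.1 fun hle => hne (Subtype.ext (Eq.symm ?_))
    rcases eq_or_lt_of_le hle with h | h
    · exact h
    haveI := r.2.1
    exact absurd ((r.2.2.over).symm.trans q.2.2.over) (Ideal.IsIntegral.comap_lt_comap h).ne
  have hsel : ∀ q : T, ∃ b : B, b ∉ q.1 ∧ ∀ r, r ≠ q → b ∈ r.1 := fun q => by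
    choose b hb hb' using fun r (hr : r ≠ q) => hinc q r (Ne.symm hr)
    refine ⟨∏ r ∈ (Finset.univ.erase q).attach, b r.1 (Finset.ne_of_mem_erase r.2), fun h => ?_, fun r hr => ?_⟩
    · haveI := q.2.1
      obtain ⟨r, -, hr⟩ := (Ideal.IsPrime.prod_mem_iff (p := q.1)).1 h
      exact hb' _ _ hr
    · exact Ideal.prod_mem (I := r.1)
        (f := fun x : {x // x ∈ Finset.univ.erase q} => b x.1 (Finset.ne_of_mem_erase x.2))
        (Finset.mem_attach _ ⟨r, Finset.mem_erase.2 ⟨hr, Finset.mem_univ r⟩⟩) (hb r hr)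
  choose w hw hw' using hsel
  let M : B' := ∑ q, algebraMap B B' (w q) * m q
  let N : B' := ∑ q, algebraMap B B' (w q) * n q
  choose g hg using fun q r => exists_descend hcd (hm q) (hn r)
  let F : B := ∑ r, ∑ q, w r * w q * g q r
  have hM : c * (M ⊗ₜ 1) = 1 ⊗ₜ M := by
    simp only [M, TensorProduct.sum_tmul, TensorProduct.tmul_sum, Finset.mul_sum]
    refine Finset.sum_congr rfl fun q _ => ?_
    rw [← Algebra.smul_def, TensorProduct.tmul_smul, ← hm q, ← TensorProduct.smul_tmul', mul_smul_comm]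
  have hNM : N * M = algebraMap B B' F := by
    simp only [M, N, F, Finset.sum_mul_sum, map_sum, map_mul, hg]
    exact Finset.sum_congr rfl fun r _ => Finset.sum_congr rfl fun q _ => by ring
  have hF : ∀ q : T, F ∉ q.1 := fun q h => by
    haveI := q.2.1
    have hfq : g q q = f q := by
      apply FaithfulSMul.algebraMap_injective B B'
      rw [hg, hnm]
    have h' : (w q * w q) * g q q ∈ q.1 := by
      refine (Submodule.add_mem_iff_left q.1 (?_ : F - (w q * w q) * g q q ∈ q.1)).1 ?_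
      · simp only [F]
        rw [← Finset.add_sum_erase _ _ (Finset.mem_univ q),
          ← Finset.add_sum_erase _ (fun r => w q * w r * g r q) (Finset.mem_univ q)]
        rw [add_assoc, add_sub_cancel_left]
        refine q.1.add_mem (q.1.sum_mem fun r hr => ?_) (q.1.sum_mem fun r hr => q.1.sum_mem fun r' _ => ?_)
        · exact q.1.mul_mem_right _ (q.1.mul_mem_left _ (hw' r q (Finset.ne_of_mem_erase hr).symm))
        · exact q.1.mul_mem_right _ (q.1.mul_mem_right _ (hw' r q (Finset.ne_of_mem_erase hr).symm))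
      · rwa [add_sub_cancel]
    rcases q.2.1.mem_or_mem h' with h1 | h1
    · exact hw q ((q.2.1.mem_or_mem h1).elim id id)
    · exact hf q (hfq ▸ h1)
  let Z : Set (PrimeSpectrum A) := PrimeSpectrum.comap (algebraMap A B) '' PrimeSpectrum.zeroLocus {F}
  have hZ : IsClosed Z := PrimeSpectrum.isClosedMap_comap_of_isIntegral _
    (algebraMap_isIntegral_iff.2 inferInstance) _ (PrimeSpectrum.isClosed_zeroLocus _)
  have hp : p ∉ Z := by
    rintro ⟨q, hq, rfl⟩
    exact hF ⟨q.asIdeal, q.isPrime, ⟨rfl⟩⟩ (by simpa using hq)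
  obtain ⟨_, ⟨_, ⟨a, rfl⟩, rfl⟩, hpa, hsub⟩ :=
    PrimeSpectrum.isBasis_basic_opens.exists_subset_of_mem_open (show p ∈ Zᶜ from hp) hZ.isOpen_compl
  refine ⟨a, F, M, N, hpa, hM, hNM, fun q hq hqF => ?_⟩
  exact hsub (show PrimeSpectrum.comap (algebraMap A B) q ∈ PrimeSpectrum.basicOpen a from hq)
    ⟨q, by simpa using hqF, rfl⟩

end Groth.ExtGm
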