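import Groth.Agent.ExtGm.Affine
import Groth.Agent.ExtGm.Semilocal
import Groth.Agent.SGA7.Ext
import Groth.Prelude.Def_NonAbH2
import Mathlib.AlgebraicGeometry.Morphisms.Finite
import Mathlib.AlgebraicGeometry.Morphisms.FinitePresentation
import Mathlib.RingTheory.Finiteness.ModuleFinitePresentation
import Mathlib.RingTheory.Flat.EquationalCriterion

/-!
Extensions of finite locally free groups by `G_m` have sections of schemes Zariski locally on the base.
-/

set_option autoImplicit false
set_option backward.isDefEq.respectTransparency false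
set_option backward.defeqAttrib.useBackward true
set_option linter.style.haveILetI false

universe u

open CategoryTheory CategoryTheory.Limits MonoidalCategory CartesianMonoidalCategory MonObj AlgebraicGeometry
open scoped TensorProduct
open Algebra.TensorProduct (includeLeft includeRight)
open Groth.Pi1Tors

noncomputable section

namespace Groth.ExtGm

attribute [local instance 10000] CategoryTheory.Hom.group

variable {S : Scheme.{u}}

/-- The affine chart of a finite locally free scheme over an affine base. -/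
theorem exists_chart {A : Type u} [CommRing A] (j : Spec (CommRingCat.of A) ⟶ S) (Q : Over S) [IsFinite Q.hom]
    [Flat Q.hom] [LocallyOfFinitePresentation Q.hom] :
    ∃ (B : Type u) (_ : CommRing B) (_ : Algebra A B), Module.Finite A B ∧ Module.Projective A B ∧
      ∃ io : specObj j B ⟶ Q, IsPullback io.left (str B) Q.hom j := by
  let P := pullback Q.hom j
  haveI : IsAffine P := isAffine_of_isAffineHom (pullback.snd Q.hom j)
  let B : Type u := Γ(P, ⊤)
  obtain ⟨φ, hφ⟩ := Spec.map_surjective (P.isoSpec.inv ≫ pullback.snd Q.hom j)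
  letI : Algebra A B := φ.hom.toAlgebra
  have hB : str (A := A) B = P.isoSpec.inv ≫ pullback.snd Q.hom j := hφ
  haveI : IsFinite (str (A := A) B) := by rw [hB]; infer_instance
  haveI : Flat (str (A := A) B) := by rw [hB]; infer_instance
  haveI : LocallyOfFinitePresentation (str (A := A) B) := by rw [hB]; infer_instance
  haveI : Module.Finite A B := RingHom.finite_algebraMap.1 ((IsFinite.SpecMap_iff _).1 ‹IsFinite (str (A := A) B)›)
  haveI : Module.Flat A B := RingHom.flat_algebraMap_iff.1 (Flat.SpecMap_iff.1 ‹Flat (str (A := A) B)›)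
  haveI : Algebra.FinitePresentation A B := RingHom.finitePresentation_algebraMap.1
    ((HasRingHomProperty.Spec_iff (P := @LocallyOfFinitePresentation)).1 ‹LocallyOfFinitePresentation (str (A := A) B)›)
  haveI : Module.FinitePresentation A B := Module.FinitePresentation.of_finite_of_finitePresentation A B
  refine ⟨B, inferInstance, inferInstance, inferInstance, Module.Flat.projective_of_finitePresentation,
    Over.homMk (P.isoSpec.inv ≫ pullback.fst Q.hom j) ?_, ?_⟩
  · change (P.isoSpec.inv ≫ pullback.fst Q.hom j) ≫ Q.hom = str B ≫ j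
    rw [hB, Category.assoc, Category.assoc, pullback.condition]
  · refine IsPullback.of_iso (IsPullback.of_hasPullback Q.hom j) P.isoSpec (Iso.refl _) (Iso.refl _) (Iso.refl _)
      ?_ ?_ (by simp) (by simp)
    · simp
    · rw [hB]; simp

variable {Q E : Over S} [GrpObj Q] [GrpObj E] {u : Red.Gm S ⟶ E} {v : E ⟶ Q}

/-- Sections over a neighbourhood of each fibre. -/
theorem exists_local_section [IsFinite Q.hom] [Flat Q.hom] [LocallyOfFinitePresentation Q.hom]
    [IsCommMonObj E] (hex : NonAbH1.IsExactSeq Scheme.fppfPrecoverage u v) (s : S) :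
    ∃ (A : Type u) (_ : CommRing A) (j : Spec (CommRingCat.of A) ⟶ S), IsOpenImmersion j ∧ s ∈ Set.range j ∧
      ∃ (B : Type u) (_ : CommRing B) (_ : Algebra A B), Module.Finite A B ∧ Module.Projective A B ∧
        ∃ (io : specObj j B ⟶ Q) (s0 : specObj j B ⟶ E),
          IsPullback io.left (str B) Q.hom j ∧ s0 ≫ v = io := by
  haveI := hex.1
  haveI := hex.2.1
  obtain ⟨U, hU, hsU, -⟩ := exists_isAffineOpen_mem_and_subset (X := S) (x := s) (U := ⊤) trivial
  obtain ⟨x, rfl⟩ := hU.range_fromSpec.ge hsU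
  generalize hj : hU.fromSpec = j₀ at x ⊢
  haveI : IsOpenImmersion j₀ := hj ▸ inferInstance
  clear hj hsU
  generalize Γ(S, U) = A₀ at j₀ x ⊢
  obtain ⟨A₀⟩ := A₀
  obtain ⟨B₀, _, _, _, _, io₀, hio₀⟩ := exists_chart (A := A₀) j₀ Q
  -- sections on an fpqc covering of the finite scheme over the neighbourhood
  obtain ⟨R, hR, hsec⟩ := hex.2.2.2.2
  obtain ⟨I, Y, g, rfl⟩ := R.exists_eq_ofArrows
  let 𝒰 : Scheme.Cover Scheme.fpqcPrecoverage Q.left :=
    { I₀ := I, X := Y, f := g, mem₀ := Scheme.fppfPrecoverage_le_fpqcPrecoverage _ hR }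
  choose τ hτ using fun i => hsec (g i) (Presieve.ofArrows.mk i)
  replace hτ : ∀ i, τ i ≫ v.left = g i := hτ
  haveI : IsAffine (specObj j₀ B₀).left := inferInstanceAs (IsAffine (Spec (CommRingCat.of B₀)))
  obtain ⟨κ, _, W, hW, ix, t, ht, hπ⟩ := DescentBase.exists_affine_refinement (𝒰.pullback₁ io₀.left)
  haveI : ∀ i, IsAffine (W i) := hW
  let π₀ : (∐ W) ⟶ Spec (CommRingCat.of B₀) := Sigma.desc fun i => t i ≫ pullback.fst io₀.left (g (ix i))
  obtain ⟨⟨hsurj, hflat⟩, -⟩ : (Surjective π₀ ∧ Flat π₀) ∧ QuasiCompact π₀ := hπ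
  obtain ⟨φ, hφ⟩ := Spec.map_surjective ((∐ W).isoSpec.inv ≫ π₀)
  let B' : Type u := Γ(∐ W, ⊤)
  letI : Algebra B₀ B' := φ.hom.toAlgebra
  have hmap : str (A := B₀) B' = (∐ W).isoSpec.inv ≫ π₀ := hφ
  haveI : Flat ((∐ W).isoSpec.inv ≫ π₀) := inferInstance
  haveI : Surjective ((∐ W).isoSpec.inv ≫ π₀) := inferInstance
  haveI : Module.Flat B₀ B' := RingHom.flat_algebraMap_iff.1 (Flat.SpecMap_iff.1 (hmap ▸ inferInstance :
    Flat (str (A := B₀) B')))
  haveI : Module.FaithfullyFlat B₀ B' := by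
    refine Module.FaithfullyFlat.of_comap_surjective fun q => ?_
    obtain ⟨w, hw⟩ := ((∐ W).isoSpec.inv ≫ π₀).surjective q
    refine ⟨w, ?_⟩
    rw [← hmap] at hw
    exact hw
  let jB : Spec (CommRingCat.of B₀) ⟶ S := io₀.left ≫ Q.hom
  let qR : ∀ (R : Type u) [CommRing R] [Algebra B₀ R], specObj jB R ⟶ Q := fun R _ _ =>
    Over.homMk (str R ≫ io₀.left) (Category.assoc _ _ _)
  have hqR : ∀ (R R' : Type u) [CommRing R] [Algebra B₀ R] [CommRing R'] [Algebra B₀ R'] (ψ : R →ₐ[B₀] R'),
      specPt jB ψ ≫ qR R = qR R' := fun R R' _ _ _ _ ψ => Over.OverMorphism.ext (by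
    change Spec.map _ ≫ str R ≫ io₀.left = str R' ≫ io₀.left
    rw [← Category.assoc, specMap_str])
  let s₁ : (∐ W) ⟶ E.left := Sigma.desc fun i => t i ≫ pullback.snd io₀.left (g (ix i)) ≫ τ (ix i)
  have hs₁v : s₁ ≫ v.left = π₀ ≫ io₀.left := Sigma.hom_ext _ _ fun i => by
    simp [s₁, π₀, hτ, pullback.condition]
  let e : specObj jB B' ⟶ E := Over.homMk ((∐ W).isoSpec.inv ≫ s₁) (by
    rw [Category.assoc, ← Over.w v, ← Category.assoc s₁, hs₁v]
    change _ = str B' ≫ io₀.left ≫ Q.hom
    simp only [hmap, Category.assoc])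
  have hev : e ≫ v = qR B' := Over.OverMorphism.ext (by
    change ((∐ W).isoSpec.inv ≫ s₁) ≫ v.left = str B' ≫ io₀.left
    rw [Category.assoc, hs₁v, hmap, Category.assoc])
  -- the cocycle
  obtain ⟨gg, hg⟩ := SGA7.Ext.exists_translate hex (specPt jB (includeLeft : B' →ₐ[B₀] B' ⊗[B₀] B') ≫ e)
    (specPt jB (includeRight : B' →ₐ[B₀] B' ⊗[B₀] B') ≫ e)
    (by rw [Category.assoc, Category.assoc, hev, hqR, hqR])
  obtain ⟨c, rfl⟩ := un_surjective jB gg
  have key : ∀ ψ : B' ⊗[B₀] B' →ₐ[B₀] B' ⊗[B₀] (B' ⊗[B₀] B'),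
      specPt jB (ψ.comp includeRight) ≫ e =
        (specPt jB (ψ.comp includeLeft) ≫ e) * (un jB (Units.map ψ.toRingHom.toMonoidHom c) ≫ u) := fun ψ => by
    have h := congrArg (specPt jB ψ ≫ ·) hg
    simp only [MonObj.comp_mul, ← Category.assoc, specPt_comp, specPt_comp_un] at h
    exact h
  have hc : p13 (c : B' ⊗[B₀] B') = p23 (c : B' ⊗[B₀] B') * p12 (c : B' ⊗[B₀] B') := by
    have e12 := key p12
    have e13 := key p13
    have e23 := key p23
    rw [show (p12 (A := B₀) (B := B')).comp includeLeft = includeLeft from AlgHom.ext fun b => by simp [p12],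
      show (p12 (A := B₀) (B := B')).comp includeRight = includeRight.comp includeLeft from
        AlgHom.ext fun b => by simp [p12]] at e12
    rw [show (p13 (A := B₀) (B := B')).comp includeLeft = includeLeft from AlgHom.ext fun b => by simp [p13],
      show (p13 (A := B₀) (B := B')).comp includeRight = includeRight.comp includeRight from
        AlgHom.ext fun b => by simp [p13]] at e13
    have hun : ∀ r r' : (B' ⊗[B₀] (B' ⊗[B₀] B'))ˣ,
        un jB (r * r') ≫ u = (un jB r ≫ u) * (un jB r' ≫ u) := fun r r' => by rw [un_mul, MonObj.mul_comp]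
    rw [e12, _root_.mul_assoc, ← hun, e13] at e23
    have h := congrArg Units.val (un_injective jB (SGA7.Ext.u_injective hex (mul_left_cancel e23)))
    rw [_root_.mul_comm]
    exact h
  obtain ⟨a, f, m, n, ha, hm, hn, hle⟩ := exists_fibre_solution (A := A₀) (c : B' ⊗[B₀] B') c.isUnit hc x
  -- descend to the open set where the solution is invertible
  let V : (Spec (CommRingCat.of B₀)).Opens := PrimeSpectrum.basicOpen f
  have hmu : IsUnit (val jB (preIncl jB B' V) m) := by
    have := isUnit_val_preIncl jB (B := B') (f := f) (V := V) le_rfl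
    rw [← hn, map_mul] at this
    exact isUnit_of_mul_isUnit_right this
  let k : preObj jB B' V ⟶ Red.Gm S := Reductive.gmMk _ hmu.unit
  let π := str (A := B₀) B'
  let q : preObj jB B' V ⟶ Over.mk (V.ι ≫ jB) := Over.homMk (π ∣_ V) (by
    change (π ∣_ V) ≫ V.ι ≫ jB = _
    rw [← Category.assoc, morphismRestrict_ι, Category.assoc]
    rfl)
  haveI : Flat π := Flat.SpecMap_iff.2 (RingHom.flat_algebraMap_iff.2 inferInstance)
  haveI : Surjective π := ⟨PrimeSpectrum.comap_surjective_of_faithfullyFlat (A := B₀) (B := B')⟩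
  haveI : Flat (π ∣_ V) := MorphismProperty.of_isPullback (P := @Flat) (isPullback_morphismRestrict π V).flip inferInstance
  haveI : Surjective (π ∣_ V) :=
    MorphismProperty.of_isPullback (P := @Surjective) (isPullback_morphismRestrict π V).flip inferInstance
  haveI : QuasiCompact (π ∣_ V) :=
    MorphismProperty.of_isPullback (P := @QuasiCompact) (isPullback_morphismRestrict π V).flip inferInstance
  have hq : Pi1Tors.LocSurj q := Pi1Tors.LocSurj.of_isLocallyTrivialFor q
    ⟨Presieve.singleton (π ∣_ V), Scheme.Hom.singleton_mem_fpqcPrecoverage (π ∣_ V), by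
      rintro S' h ⟨⟩; exact ⟨𝟙 _, Category.id_comp _⟩⟩
  obtain ⟨t₀, ht₀⟩ := hq.desc ((preIncl jB B' V ≫ e) * (k ≫ u)⁻¹) fun T y y' hy => by
    have hb : (y ≫ preIncl jB B' V).left ≫ π = (y' ≫ preIncl jB B' V).left ≫ π := by
      have := congrArg (fun z => z.left ≫ V.ι) hy
      simpa [q] using this
    obtain ⟨w, hw1, hw2⟩ := exists_pair jB (y ≫ preIncl jB B' V) (y' ≫ preIncl jB B' V) hb
    have h := congrArg (w ≫ ·) hg
    simp only [MonObj.comp_mul, ← Category.assoc, hw1, hw2] at h
    have hcm : (w ≫ un jB c) * (y ≫ k) = y' ≫ k := by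
      apply Reductive.gmFn_injective
      rw [Reductive.gmFn_mul, Reductive.gmFn_comp, Reductive.gmFn_comp, Reductive.gmFn_comp, gmFn_un,
        ← val_comp, Category.comp_id]
      simp only [k, Reductive.gmFn_gmMk, IsUnit.unit_spec]
      have e := congrArg (val jB w) hm
      rw [map_mul] at e
      have e1 : val jB w (m ⊗ₜ[B₀] (1 : B')) = y.left.appTop (val jB (preIncl jB B' V) m) := by
        rw [← val_comp, ← hw1, val_specPt]; rfl
      have e2 : val jB w ((1 : B') ⊗ₜ[B₀] m) = y'.left.appTop (val jB (preIncl jB B' V) m) := by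
        rw [← val_comp, ← hw2, val_specPt]; rfl
      rw [e1, e2] at e
      exact e
    have hc' : (w ≫ un jB c) * (y ≫ k) = (y ≫ k) * (w ≫ un jB c) :=
      Reductive.gmFn_injective (by rw [Reductive.gmFn_mul, Reductive.gmFn_mul, _root_.mul_comm])
    have hmc : (y' ≫ k) ≫ u = ((y ≫ k) ≫ u) * ((w ≫ un jB c) ≫ u) := by
      rw [← hcm, hc']
      exact MonObj.mul_comp _ _ u
    simp only [MonObj.comp_mul, GrpObj.comp_inv, ← Category.assoc]
    rw [h, hmc, _root_.mul_inv_rev, _root_.mul_assoc, ← _root_.mul_assoc ((w ≫ un jB c) ≫ u), mul_inv_cancel,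
      _root_.one_mul]
  have ht₀v : t₀.left ≫ v.left = V.ι ≫ io₀.left := by
    let iV : Over.mk (V.ι ≫ jB) ⟶ Q := Over.homMk (V.ι ≫ io₀.left) (Category.assoc _ _ _)
    refine congrArg CommaMorphism.left (hq.cancel (a := t₀ ≫ v) (b := iV) ?_)
    rw [← Category.assoc, ht₀, MonObj.mul_comp, GrpObj.inv_comp, SGA7.Ext.comp_eq_one hex, inv_one,
      _root_.mul_one, Category.assoc, hev]
    refine Over.OverMorphism.ext ?_
    change _ ≫ π ≫ io₀.left = (π ∣_ V) ≫ V.ι ≫ io₀.left
    rw [morphismRestrict_ι_assoc]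
    rfl
  -- restrict to the neighbourhood
  let A : Type u := Localization.Away a
  let l : Spec (CommRingCat.of A) ⟶ Spec (CommRingCat.of A₀) := Spec.map (CommRingCat.ofHom (algebraMap A₀ A))
  haveI : IsOpenImmersion l := IsOpenImmersion.of_isLocalization a
  have hrange : Set.range l = (PrimeSpectrum.basicOpen a : Set (PrimeSpectrum A₀)) :=
    PrimeSpectrum.localization_away_comap_range A a
  let j : Spec (CommRingCat.of A) ⟶ S := l ≫ j₀
  obtain ⟨B, _, _, hfin, hproj, io, hio⟩ := exists_chart (A := A) j Q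
  let z : Spec (CommRingCat.of B) ⟶ Spec (CommRingCat.of B₀) := hio₀.lift io.left (str B ≫ l) (by
    rw [Category.assoc]; exact hio.w)
  have hz : z ≫ io₀.left = io.left := hio₀.lift_fst _ _ _
  have hz' : z ≫ str B₀ = str B ≫ l := hio₀.lift_snd _ _ _
  have hzr : Set.range z ⊆ Set.range V.ι := by
    rintro _ ⟨y, rfl⟩
    rw [Scheme.Opens.range_ι]
    refine hle ?_
    have : l (str B y) ∈ Set.range l := ⟨_, rfl⟩
    rw [hrange, ← Scheme.Hom.comp_apply, ← hz', Scheme.Hom.comp_apply] at this
    exact this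
  let z' := IsOpenImmersion.lift V.ι z hzr
  have hz'fac : z' ≫ V.ι = z := IsOpenImmersion.lift_fac _ _ _
  refine ⟨A, inferInstance, j, inferInstance, ?_, B, inferInstance, inferInstance, hfin, hproj, io,
    Over.homMk (z' ≫ t₀.left) ?_, hio, Over.OverMorphism.ext ?_⟩
  · obtain ⟨y, hy⟩ := hrange.ge (show x ∈ PrimeSpectrum.basicOpen a from ha)
    exact ⟨y, by rw [Scheme.Hom.comp_apply, hy]⟩
  · change (z' ≫ t₀.left) ≫ E.hom = str B ≫ j
    rw [Category.assoc, Over.w t₀]
    change z' ≫ V.ι ≫ io₀.left ≫ Q.hom = _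
    rw [← Category.assoc z', hz'fac, ← Category.assoc z, hz]
    exact hio.w
  · change (z' ≫ t₀.left) ≫ v.left = io.left
    rw [Category.assoc, ht₀v, ← Category.assoc, hz'fac, hz]

end Groth.ExtGm
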